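import Groth.Prelude.Def_DCoh3
import Groth.Prelude.Def_CohBC2
import Groth.Agent.Dual22Lib.BCMain
import Groth.Agent.DCat.FlatPull
import Groth.Agent.DCat.PullPush
import Groth.Agent.SiteDer16.RpushBounded
import Groth.Agent.Coherent.RpushComp

/-!
# Flat base change for the higher direct images of quasi-coherent modules
-/

set_option autoImplicit false
set_option backward.isDefEq.respectTransparency false
set_option linter.style.haveILetI false

universe u

open CategoryTheory CategoryTheory.Limits AlgebraicGeometry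
open Groth.Agent.DCat

attribute [local instance] HasDerivedCategory.standard

namespace Groth.Agent.FlatBC14

variable {X Y : Scheme.{u}}

theorem isIso_pullKh_of_flat (g : X ⟶ Y) [Flat g] ⦃K L : HomotopyCategory Y.Modules (ComplexShape.up ℤ)⦄ (s : K ⟶ L)
    (hs : HomotopyCategory.quasiIso Y.Modules (ComplexShape.up ℤ) s) : IsIso ((DCoh.pullKh g).map s) := by
  obtain ⟨K⟩ := K
  obtain ⟨L⟩ := L
  obtain ⟨s, rfl⟩ := (HomotopyCategory.quotient Y.Modules (ComplexShape.up ℤ)).map_surjective s
  haveI : QuasiIso s := (HomotopyCategory.quotient_map_mem_quasiIso_iff s).1 hs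
  exact Localization.inverts DerivedCategory.Qh (HomotopyCategory.quasiIso X.Modules (ComplexShape.up ℤ))
    ((HomotopyCategory.quotient X.Modules (ComplexShape.up ℤ)).map
      (((Scheme.Modules.pullback g).mapHomologicalComplex (ComplexShape.up ℤ)).map s))
    ((HomotopyCategory.quotient_map_mem_quasiIso_iff _).2
      ((HomologicalComplex.mem_quasiIso_iff _).2 inferInstance))

/-- Derived inverse image along a flat morphism, on complexes. -/
theorem nonempty_Lpull_Q (g : X ⟶ Y) [Flat g] [DCoh.HasLpull g] (N : CochainComplex Y.Modules ℤ) :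
    Nonempty ((DCoh.Lpull g).obj (DerivedCategory.Q.obj N) ≅
      DerivedCategory.Q.obj (((Scheme.Modules.pullback g).mapHomologicalComplex (ComplexShape.up ℤ)).obj N)) := by
  haveI := isIso_counit_of_mem (P := fun _ : HomotopyCategory Y.Modules (ComplexShape.up ℤ) => True)
    (fun K => ⟨K, 𝟙 K, trivial, MorphismProperty.id_mem _ K⟩)
    (fun K L s _ _ hs => isIso_pullKh_of_flat g s hs)
    ((DCoh.pullKh g).totalLeftDerivedCounit DerivedCategory.Qh
      (HomotopyCategory.quasiIso Y.Modules (ComplexShape.up ℤ)))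
    (X := (HomotopyCategory.quotient Y.Modules (ComplexShape.up ℤ)).obj N) trivial
  exact ⟨(DCoh.Lpull g).mapIso ((DerivedCategory.quotientCompQhIso Y.Modules).app N).symm ≪≫
    asIso (((DCoh.pullKh g).totalLeftDerivedCounit DerivedCategory.Qh
      (HomotopyCategory.quasiIso Y.Modules (ComplexShape.up ℤ))).app
        ((HomotopyCategory.quotient Y.Modules (ComplexShape.up ℤ)).obj N)) ≪≫
    (DerivedCategory.quotientCompQhIso X.Modules).app
      (((Scheme.Modules.pullback g).mapHomologicalComplex (ComplexShape.up ℤ)).obj N)⟩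

theorem nonempty_homology_Lpull (g : X ⟶ Y) [Flat g] [DCoh.HasLpull g] (E : DCoh.D Y) (i : ℤ) :
    Nonempty ((DerivedCategory.homologyFunctor X.Modules i).obj ((DCoh.Lpull g).obj E) ≅
      (Scheme.Modules.pullback g).obj ((DerivedCategory.homologyFunctor Y.Modules i).obj E)) := by
  let N := DerivedCategory.Q.objPreimage E
  let eE : DerivedCategory.Q.obj N ≅ E := DerivedCategory.Q.objObjPreimageIso E
  obtain ⟨e⟩ := nonempty_Lpull_Q g N
  exact ⟨(DerivedCategory.homologyFunctor X.Modules i).mapIso ((DCoh.Lpull g).mapIso eE.symm ≪≫ e) ≪≫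
    (DerivedCategory.homologyFunctorFactors X.Modules i).app _ ≪≫
    (N.sc i).mapHomologyIso (Scheme.Modules.pullback g) ≪≫
    (Scheme.Modules.pullback g).mapIso (((DerivedCategory.homologyFunctorFactors Y.Modules i).app N).symm ≪≫
      (DerivedCategory.homologyFunctor Y.Modules i).mapIso eE)⟩

/-- Derived inverse image along a flat morphism of a module. -/
theorem nonempty_Lpull_inD (g : X ⟶ Y) [Flat g] [DCoh.HasLpull g] (M : Y.Modules) :
    Nonempty ((DCoh.Lpull g).obj (DCoh.inD Y M) ≅ DCoh.inD X ((Scheme.Modules.pullback g).obj M)) := by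
  obtain ⟨e⟩ := nonempty_Lpull_Q g ((CochainComplex.singleFunctor Y.Modules 0).obj M)
  exact ⟨(DCoh.Lpull g).mapIso ((DerivedCategory.singleFunctorIsoCompQ Y.Modules 0).app M) ≪≫ e ≪≫
    DerivedCategory.Q.mapIso ((HomologicalComplex.singleMapHomologicalComplex (Scheme.Modules.pullback g)
      (ComplexShape.up ℤ) 0).app M) ≪≫
    ((DerivedCategory.singleFunctorIsoCompQ X.Modules 0).app _).symm⟩

/-- Cohomology of the derived direct image of a module. -/
theorem nonempty_homology_Rpush (f : X ⟶ Y) [DCoh.HasRpush f] [HasInjectiveResolutions X.Modules]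
    (M : X.Modules) (p : ℕ) :
    Nonempty ((DerivedCategory.homologyFunctor Y.Modules (p : ℤ)).obj ((DCoh.Rpush f).obj (DCoh.inD X M)) ≅
      (Coh.Rpush f p).obj M) :=
  SiteDer16.nonempty_iso_homology_single (modules_enoughKInj X) (Scheme.Modules.pushforward f) M p

theorem isQCohD_inD (M : X.Modules) [Coh.IsQCoh M] : DCoh.IsQCohD (DCoh.inD X M) := fun p => by
  by_cases hp : p = 0
  · subst hp
    exact Coherent.isQCoh_of_iso ((DerivedCategory.singleFunctorCompHomologyFunctorIso X.Modules 0).app M).symm (h := (inferInstance : Coh.IsQCoh M))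
  · rcases lt_or_gt_of_ne hp with hlt | hlt
    · exact Coherent.isQCoh_of_isZero (DerivedCategory.isZero_of_isGE _ 0 p hlt)
    · exact Coherent.isQCoh_of_isZero (DerivedCategory.isZero_of_isLE _ 0 p hlt)

theorem nonempty_rpush_flat_base_change {S X' S' : Scheme.{u}} (f : X ⟶ S) (g : S' ⟶ S)
    (g' : X' ⟶ X) (f' : X' ⟶ S') (h : IsPullback g' f' f g) [QuasiCompact f] [QuasiSeparated f]
    [Flat g] [HasInjectiveResolutions X.Modules] [HasInjectiveResolutions X'.Modules]
    (M : X.Modules) [Coh.IsQCoh M] (i : ℕ) :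
    Nonempty ((Scheme.Modules.pullback g).obj ((Coh.Rpush f i).obj M) ≅
      (Coh.Rpush f' i).obj ((Scheme.Modules.pullback g').obj M)) := by
  haveI : Flat g' := MorphismProperty.of_isPullback h.flip inferInstance
  haveI := hasRpush f
  haveI := hasRpush g
  haveI := hasRpush f'
  haveI := hasRpush g'
  haveI := hasLpull g
  haveI := hasLpull g'
  obtain ⟨adjg⟩ := nonempty_pullPushAdj g
  obtain ⟨adjg'⟩ := nonempty_pullPushAdj g'
  obtain ⟨e⟩ := Dual22Lib.BCSquare.exists_e h.w
  haveI := Dual22Lib.BCMain.good_of_flat f g h (Or.inr inferInstance) inferInstance inferInstance inferInstance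
    inferInstance inferInstance inferInstance adjg adjg' e (DCoh.inD X M) (isQCohD_inD M)
  obtain ⟨a⟩ := nonempty_homology_Lpull g ((DCoh.Rpush f).obj (DCoh.inD X M)) (i : ℤ)
  obtain ⟨b⟩ := nonempty_homology_Rpush f M i
  obtain ⟨c⟩ := nonempty_homology_Rpush f' ((Scheme.Modules.pullback g').obj M) i
  obtain ⟨d⟩ := nonempty_Lpull_inD g' M
  exact ⟨(Scheme.Modules.pullback g).mapIso b.symm ≪≫ a.symm ≪≫
    (DerivedCategory.homologyFunctor S'.Modules (i : ℤ)).mapIso
      (asIso ((Dual22Lib.BCAlg.bc adjg adjg' e).app (DCoh.inD X M)) ≪≫ (DCoh.Rpush f').mapIso d) ≪≫ c⟩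

end Groth.Agent.FlatBC14
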